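import Cfsg.Agent.Lib.TC.Enc

namespace Cfsg.Agent.Lib.CosetCert.D.OnJ1.Lv1.CT

open Cfsg.Agent.Lib.TC.Enc

set_option maxRecDepth 100000

/-- The chunks of the certificate. -/
noncomputable def tree : Tr Nat :=
  (Tr.leaf (nat_lit 0x300055b70544f155073548bc0156dbd4b3c74e1bf4cae80558b4d19b2522eed14b60156db73f5c3421d9402c0055b6c4e4f2cf0744e9ae0156ddd41caf354b7366b00559ee4cb2b4bd354c1aa0156dd731cab2b4b92c6a0055a6eca32a49ef7d1da60156ddb3bca7234b124690055aacc83294762d479a20156de353ca3194c11aa800558b245b36cf6e8454a00156da113cdf49bcb17270055b6743f3853c67c429a01562c30cce355b9b0b268055b66c273750ef1435980156dcd1bc99070e350658055b7853725c0d2f411940156dbf05c95010e14a648055837d1324bfef4ca5900156dd52dc90fdbd733638055b764df23bec374f98c0156dcf1fc8cf74b2f8628055b6d3e722bd6f3c85880156dd125c88f30db38a180558ab3c0364d2e1bbc860156d86ed0d72ebaef1a100558aa3a8354aae13a4840156d84e70d326baaeb200055b6038c3448860b927e01562a2e00cf1cb7edf1f8055b5fb7433462e93857c01560cb14c7cdb0c9125e8055b71c471eb5d27361780156d9ed9c78d50c70e5d805583142b1db4c3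0c22740156296d00c106b74cf1d0055b5d3342fc0ae6346720156292ca0bd00b72c91c8055b5cb1c2ebfae532c6e0156d6ec30b8fc170c49b00558a33002dbeadb2fc6c0156d6cbd0b4f6b8ec19a80558a22e82cbd2daae46a0156d6ab70b0f2b8abb5a005582bbbb1a2d42b3b16601560aae8c66b30a8e6590055b69b97192bd202c1620156d82b1c62ad0a6e258005582937b182ac28b725e015627aa80a0dab5ea7178055b57a9427b5adf2a65c0156276a209cd4b5ca1170055b5727c26b4ade28d580156098cec589d096cc55805582532315a6c24b19540156d90c5c549746e98548055b5c26714a542430950015608ebec509308cbc538055822ae313a44222d84a0156d4a8d086b415a8e920055899228212cad2224480156d4887082aeb668b918055898210202b2d1a0c460156d468107eaab628550005581f29b101fc1ea913e0156078a0c3e7d0769e4f0055b5a23f0f1e5129e83a0156d3a750749c144768e00558951c81ca6ace1c4380156d386f07096b56738d80558941b01ba52cd9ac360156d366906c92b526d8d00558931981aa42cd194340156d346134262b4e674c8055b569ef0c97c1a23130015606688c305d064864b8055818a0b0b96c182012c0156d5877c2c5743a588a80558901531318eca94c2a0156d2a5105e7eb42558a005588f138171f2ca134280156d284b05a78b3e4f498055b51167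09924161d124015605670c24470546e4880558149ab08914141a120015604e64c204304c6087805588c1001297ac78fc1e0156d1e3d0485cb324187005588b0e81196ac70e41c0156d1c3704456b2e3b46805581094b068d41014118015603e4cc183303c4a8580558890c00e922c58bc160156d162d03846b26318500558880a80d912c50a4140156d142703442b222b44805580c8fb048940c0f110015602e38c102302c368380558860800a8d2c387c0e0156d0e1d02832b1a214300558098bb0306c090b10a015602228c0a190202682005588405807892c2054080156d081301c22b121741805580687b018440607204015620a0e0161ab040d010055b4102c05062c303d02015601214c02090101280005588081803842c001500015600c0cc000300a0a000055b4000402022c181c000156006040040200200))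

end Cfsg.Agent.Lib.CosetCert.D.OnJ1.Lv1.CT
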